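import Mathlib.RingTheory.HopfAlgebra.Convolution
import Mathlib.RingTheory.Kaehler.Basic
import Mathlib.RingTheory.TensorProduct.Basic
import Mathlib.RingTheory.TensorProduct.Free

/-!
# Kähler differentials of a Hopf algebra: `Ω[B⁄K] ≅ B ⊗ ω`
-/

universe u v


open TensorProduct Coalgebra HopfAlgebra

noncomputable section

namespace Groth.Agent.HopfOmega

variable (K : Type u) (B : Type v) [CommRing K] [CommRing B] [HopfAlgebra K B]

/-- The augmentation ideal times `Ω`. -/
def augSub : Submodule B Ω[B⁄K] :=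
  RingHom.ker (Bialgebra.counitAlgHom K B) • (⊤ : Submodule B Ω[B⁄K])

/-- Differentials at the unit. -/
abbrev Cot : Type _ := Ω[B⁄K] ⧸ augSub K B

/-- The class of `d b` at the unit. -/
def dCot : B →ₗ[K] Cot K B :=
  ((augSub K B).mkQ.restrictScalars K) ∘ₗ (KaehlerDifferential.D K B).toLinearMap

variable {K B}

lemma smul_cot (b : B) (q : Cot K B) : b • q = counit (R := K) b • q := by
  obtain ⟨ω, rfl⟩ := Submodule.Quotient.mk_surjective _ q
  rw [← Submodule.Quotient.mk_smul, ← Submodule.Quotient.mk_smul, Submodule.Quotient.eq]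
  rw [← algebraMap_smul B (counit (R := K) b) ω, ← sub_smul]
  exact Submodule.smul_mem_smul (by simp [RingHom.mem_ker]) Submodule.mem_top

lemma dCot_mul (x y : B) :
    dCot K B (x * y) = counit (R := K) x • dCot K B y + counit (R := K) y • dCot K B x := by
  simp only [← smul_cot]
  simp [dCot]

variable (K B)

/-- `x ⊗ y ↦ x ⊗ [d y]`. -/
def lD : B ⊗[K] B →ₗ[K] B ⊗[K] Cot K B := (dCot K B).lTensor B

/-- `x ⊗ y ↦ ε(y) x`. -/
def rE : B ⊗[K] B →ₗ[K] B :=
  (TensorProduct.rid K B).toLinearMap ∘ₗ (Coalgebra.counit (R := K) (A := B)).lTensor B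

variable {K B}

lemma lD_mul (s t : B ⊗[K] B) :
    lD K B (s * t) = rE K B s • lD K B t + rE K B t • lD K B s := by
  induction s using TensorProduct.induction_on with
  | zero => simp
  | add s s' hs hs' => simp only [add_mul, map_add, hs, hs', add_smul, smul_add]; abel
  | tmul a b =>
    induction t using TensorProduct.induction_on with
    | zero => simp
    | add t t' ht ht' => simp only [mul_add, map_add, ht, ht', add_smul, smul_add]; abel
    | tmul c e =>
      simp only [lD, rE, LinearMap.comp_apply, LinearEquiv.coe_coe, LinearMap.lTensor_tmul,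
        TensorProduct.rid_tmul, Algebra.TensorProduct.tmul_mul_tmul, dCot_mul,
        TensorProduct.tmul_add, TensorProduct.tmul_smul, TensorProduct.smul_tmul', smul_eq_mul,
        smul_mul_assoc, mul_comm c a]

lemma rE_comul (b : B) : rE K B (comul b) = b := by
  simp [rE, lTensor_counit_comul]

variable (K B)

/-- The derivation `b ↦ b₁ ⊗ [d b₂]`. -/
def derTensor : Derivation K B (B ⊗[K] Cot K B) :=
  Derivation.mk' (lD K B ∘ₗ comul) fun x y => by
    simp only [LinearMap.comp_apply, Bialgebra.comul_mul, lD_mul, rE_comul]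

/-- `Ω → B ⊗ ω`. -/
def toTensor : Ω[B⁄K] →ₗ[B] B ⊗[K] Cot K B := (derTensor K B).liftKaehlerDifferential

/-- `Ω` with `B` acting through the counit. -/
def Tw : Type _ := Ω[B⁄K]

instance : AddCommGroup (Tw K B) := inferInstanceAs (AddCommGroup Ω[B⁄K])
instance : Module K (Tw K B) := inferInstanceAs (Module K Ω[B⁄K])
instance twModule : Module B (Tw K B) :=
  Module.compHom (Tw K B) (Bialgebra.counitAlgHom K B).toRingHom

/-- The identity `Ω → Tw`. -/
def twEquiv : Ω[B⁄K] ≃ₗ[K] Tw K B := LinearEquiv.refl K _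

variable {K B}

lemma smul_tw (b : B) (m : Tw K B) : b • m = counit (R := K) b • m := rfl

instance : IsScalarTower K B (Tw K B) where
  smul_assoc r b m :=
    (congrArg (· • m) ((map_smul (counit (R := K) (A := B)) r b).trans (smul_eq_mul r _))).trans
      (mul_smul r (counit (R := K) b) m)

variable (K B)

/-- `x ⊗ y ↦ S(x) d y`. -/
def mS : B ⊗[K] B →ₗ[K] Ω[B⁄K] :=
  TensorProduct.lift (((LinearMap.lsmul B Ω[B⁄K]).restrictScalars₁₂ K K).compl₁₂
    (antipode K) (KaehlerDifferential.D K B).toLinearMap)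

/-- `b ↦ S(b₁) d b₂`. -/
def invDiff : B →ₗ[K] Ω[B⁄K] := mS K B ∘ₗ comul

variable {K B}

lemma invDiff_eq {ι : Type*} {b : B} (r : Repr K b ι) :
    invDiff K B b = ∑ i ∈ r.index, antipode K (r.left i) • KaehlerDifferential.D K B (r.right i) := by
  simp [invDiff, mS, ← r.eq, map_sum]

lemma sum_smul_invDiff {b : B} {ι : Type*} (r : Repr K b ι) :
    ∑ i ∈ r.index, r.left i • invDiff K B (r.right i) = KaehlerDifferential.D K B b := by
  simp_rw [invDiff_eq (ℛ K (r.right _)), Finset.smul_sum, smul_smul]
  have h := congr(TensorProduct.lift ((((LinearMap.lsmul B Ω[B⁄K]).restrictScalars₁₂ K K)))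
    (TensorProduct.map (LinearMap.mul' K B ∘ₗ (antipode K).lTensor B)
      (KaehlerDifferential.D K B).toLinearMap ((TensorProduct.assoc K B B B).symm
      $(sum_tmul_tmul_eq r (fun i => ℛ K (r.left i)) (fun i => ℛ K (r.right i))))))
  simp only [map_sum, TensorProduct.assoc_symm_tmul, TensorProduct.map_tmul, LinearMap.comp_apply,
    LinearMap.lTensor_tmul, LinearMap.mul'_apply, TensorProduct.lift.tmul,
    LinearMap.restrictScalars₁₂_apply_apply, LinearMap.lsmul_apply,
    Derivation.coeFn_coe] at h
  rw [← h]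
  simp_rw [← Finset.sum_smul, sum_mul_antipode_eq_algebraMap_counit, algebraMap_smul,
    ← Derivation.map_smul, ← map_sum, sum_counit_smul]

lemma invDiff_mul (x y : B) :
    invDiff K B (x * y) = counit (R := K) x • invDiff K B y + counit (R := K) y • invDiff K B x := by
  have h : invDiff K B (x * y) =
      ∑ i ∈ (ℛ K x).index, ∑ j ∈ (ℛ K y).index,
        antipode K ((ℛ K x).left i * (ℛ K y).left j) •
          KaehlerDifferential.D K B ((ℛ K x).right i * (ℛ K y).right j) := by
    rw [invDiff, LinearMap.comp_apply, Bialgebra.comul_mul, ← (ℛ K x).eq, ← (ℛ K y).eq,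
      Finset.sum_mul_sum]
    simp [mS, map_sum]
  have key : ∀ {a : B}, ∑ i ∈ (ℛ K a).index,
      antipode K ((ℛ K a).left i) * (ℛ K a).right i = algebraMap K B (counit a) :=
    sum_antipode_mul_eq_algebraMap_counit _
  rw [h, ← algebraMap_smul B (counit (R := K) x), ← algebraMap_smul B (counit (R := K) y),
    invDiff_eq (ℛ K y), invDiff_eq (ℛ K x), ← key, ← key, Finset.sum_smul, Finset.sum_smul]
  simp_rw [Finset.smul_sum]
  rw [Finset.sum_comm (s := (ℛ K y).index) (t := (ℛ K x).index), ← Finset.sum_add_distrib]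
  refine Finset.sum_congr rfl fun i _ => ?_
  rw [← Finset.sum_add_distrib]
  refine Finset.sum_congr rfl fun j _ => ?_
  rw [antipode_mul_distrib, Derivation.leibniz, smul_add, smul_smul, smul_smul, smul_smul, smul_smul]
  congr 2 <;> ring

variable (K B)

/-- The twisted derivation `b ↦ S(b₁) d b₂`. -/
def derTw : Derivation K B (Tw K B) :=
  Derivation.mk' ((twEquiv K B).toLinearMap ∘ₗ invDiff K B) fun x y => by
    show invDiff K B (x * y) = _
    exact invDiff_mul x y

/-- `ω → Ω`. -/
def fromCot : Cot K B →ₗ[K] Ω[B⁄K] :=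
  (twEquiv K B).symm.toLinearMap ∘ₗ (((augSub K B).liftQ (derTw K B).liftKaehlerDifferential (by
    refine Submodule.smul_le.mpr fun r hr ω _ => ?_
    rw [LinearMap.mem_ker, map_smul, smul_tw,
      show counit (R := K) r = 0 from hr, zero_smul])).restrictScalars K)

variable {K B}

lemma fromCot_dCot (b : B) : fromCot K B (dCot K B b) = invDiff K B b := by
  show (derTw K B).liftKaehlerDifferential (KaehlerDifferential.D K B b) = _
  rw [Derivation.liftKaehlerDifferential_comp_D]
  rfl

variable (K B)

/-- `B ⊗ ω → Ω`. -/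
def ofTensor : B ⊗[K] Cot K B →ₗ[B] Ω[B⁄K] := (fromCot K B).liftBaseChange B

variable {K B}

lemma toTensor_D {b : B} {ι : Type*} (r : Repr K b ι) :
    toTensor K B (KaehlerDifferential.D K B b) =
      ∑ i ∈ r.index, r.left i ⊗ₜ dCot K B (r.right i) := by
  rw [toTensor, Derivation.liftKaehlerDifferential_comp_D]
  simp [derTensor, lD, ← r.eq, map_sum]

lemma ofTensor_comp_toTensor : ofTensor K B ∘ₗ toTensor K B = LinearMap.id := by
  refine Derivation.liftKaehlerDifferential_unique _ _ (Derivation.ext fun b => ?_)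
  simp [ofTensor, toTensor_D (ℛ K b), fromCot_dCot, map_sum, sum_smul_invDiff]

lemma toTensor_invDiff (b : B) : toTensor K B (invDiff K B b) = 1 ⊗ₜ dCot K B b := by
  simp_rw [invDiff_eq (ℛ K b), map_sum, map_smul, toTensor_D (ℛ K ((ℛ K b).right _)),
    Finset.smul_sum, TensorProduct.smul_tmul', smul_eq_mul]
  have h := congr(TensorProduct.map (LinearMap.mul' K B ∘ₗ (antipode K).rTensor B)
      (dCot K B) ((TensorProduct.assoc K B B B).symm
      $(sum_tmul_tmul_eq (ℛ K b) (fun i => ℛ K ((ℛ K b).left i))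
        (fun i => ℛ K ((ℛ K b).right i)))))
  simp only [map_sum, TensorProduct.assoc_symm_tmul, TensorProduct.map_tmul, LinearMap.comp_apply,
    LinearMap.rTensor_tmul, LinearMap.mul'_apply] at h
  rw [← h]
  simp_rw [← TensorProduct.sum_tmul, sum_antipode_mul_eq_smul, TensorProduct.smul_tmul,
    ← TensorProduct.tmul_sum, ← map_smul, ← map_sum, sum_counit_smul]

lemma toTensor_comp_ofTensor : toTensor K B ∘ₗ ofTensor K B = LinearMap.id := by
  apply TensorProduct.AlgebraTensorModule.ext
  intro a q
  obtain ⟨ω, rfl⟩ := Submodule.Quotient.mk_surjective _ q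
  have hω : ω ∈ Submodule.span B (Set.range (KaehlerDifferential.D K B)) := by
    rw [KaehlerDifferential.span_range_derivation]; trivial
  simp only [LinearMap.comp_apply, LinearMap.id_apply, ofTensor, LinearMap.liftBaseChange_tmul,
    map_smul]
  suffices h : toTensor K B (fromCot K B (Submodule.Quotient.mk ω)) =
      1 ⊗ₜ (Submodule.Quotient.mk ω : Cot K B) by
    rw [h, TensorProduct.smul_tmul', smul_eq_mul, mul_one]
  induction hω using Submodule.span_induction with
  | mem x hx =>
    obtain ⟨b, rfl⟩ := hx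
    exact (congrArg (toTensor K B) (fromCot_dCot b)).trans (toTensor_invDiff b)
  | zero => simp
  | add x y _ _ hx hy =>
    simp only [Submodule.Quotient.mk_add, map_add, TensorProduct.tmul_add, hx, hy]
  | smul c x _ hx =>
    rw [Submodule.Quotient.mk_smul, smul_cot, map_smul, LinearMap.map_smul_of_tower, hx,
      TensorProduct.tmul_smul]

variable (K B)

/-- The differentials of a commutative Hopf algebra are induced from the cotangent space at the unit. -/
def omegaEquiv : Ω[B⁄K] ≃ₗ[B] B ⊗[K] Cot K B :=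
  LinearEquiv.ofLinearMap (toTensor K B) (ofTensor K B) toTensor_comp_ofTensor ofTensor_comp_toTensor

theorem free_kaehler [Module.Free K (Cot K B)] : Module.Free B Ω[B⁄K] :=
  Module.Free.of_equiv (omegaEquiv K B).symm

end Groth.Agent.HopfOmega
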